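import Cfsg.Agent.Lib.He.B

/-!
The normalizers of the four-groups in the model (data generated by tools/he9).
-/

set_option autoImplicit false
set_option maxRecDepth 100000
set_option Elab.async false

namespace CA.He
open Subgroup CA CA.Fi CA.Ex2 CA.CoT CA.TC Cfsg Cfsg.Spor

def us1 : List (List ℕ) := [[11, 13], [13, 11, 3, 2], [13, 11, 10], [13, 11, 2]]
def t1 : List ℕ := [11, 13, 11, 8, 4]
def W1 : List ℕ := [8, 0, 3, 5, 10, 12]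
def I1 : List ℕ := [0, 1, 2, 3, 4, 5, 8, 10, 11, 12, 13]
theorem c_exc1 : excB 0 6 Ag1 = true := by decide +kernel
theorem c_dl1 : dlB 0 [1, 24, 36] Ag1 (t1 :: us1) [[0], [1], [2], [3, 2], [4], [5, 4, 1], [3], [3, 2, 0], [5], [5, 4], [2, 0], [2, 1]] = true := by decide +kernel
theorem c_ku1 : kuB 0 6 us1 [[0, 3, 1, 2], [3, 2, 2, 1, 1, 0], [3, 2, 0, 1, 0], [0, 0, 1, 0]] = true := by decide +kernel
theorem c_sb1 : sbB 6 [1, 8, 32] W1 I1 (t1 :: us1) [[2, 1, 2, 1], [3, 4, 2, 3, 4, 2], [1, 2, 1, 4], [1, 1, 2, 0, 1, 0], [1, 3], [1, 3, 3, 1]]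
    [[1, 0], [1], [4, 2], [5, 3, 1, 0], [4], [5, 1], [0], [2], [3, 0], [3, 2, 0], [5, 4, 1], [3], [3, 2], [5], [5, 4], [], [5, 2], [5, 4, 2, 0]]
    [[4, 5, 3, 4, 5, 3], [5, 2, 0], [2, 5], [2, 3, 2, 5], [5, 2], [0, 3, 5, 3, 0], [3, 2, 3, 2], [2, 4], [3, 1, 2, 3], [2, 4, 4, 2], [3, 1, 2, 3, 2]] = true := by decide +kernel
def us2 : List (List ℕ) := [[10, 14], [14, 10, 1, 0], [14, 11, 10], [14, 10, 0]]
def t2 : List ℕ := [10, 14, 10, 8, 1]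
def W2 : List ℕ := [8, 0, 2, 5, 11, 12]
def I2 : List ℕ := [0, 1, 2, 3, 4, 5, 8, 10, 11, 12, 14]
theorem c_exc2 : excB 5 7 Ag2 = true := by decide +kernel
theorem c_dl2 : dlB 5 [32, 6, 9] Ag2 (t2 :: us2) [[0], [1], [2], [3, 2], [4], [5, 4, 1], [3], [3, 2, 0], [5], [5, 4], [2, 0], [4, 1], [3, 2, 1, 0], [2, 1]] = true := by decide +kernel
theorem c_ku2 : kuB 5 7 us2 [[3, 2, 0, 0, 1, 3], [1, 2, 1, 3, 0, 1], [3, 2, 0, 1, 0], [1, 1, 0, 2, 2, 1]] = true := by decide +kernel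
theorem c_sb2 : sbB 7 [1, 4, 32] W2 I2 (t2 :: us2) [[2, 1, 2, 1], [1, 4], [4, 1], [1, 3, 0, 3, 1, 0], [1, 3, 3, 1], [3, 1]]
    [[3, 0], [5, 3, 1, 0], [4, 2], [3], [4], [5, 3], [0], [1, 0], [2], [2, 1, 0], [5, 4, 3], [2, 1], [1], [5], [5, 4], [2, 0], [4, 3], [], [4, 1], [4, 3, 2, 1, 0], [5, 4, 2, 1]]
    [[2, 5], [2, 3, 2, 5], [5, 2], [1, 2, 1, 2], [2, 3, 2, 5, 0], [2, 4, 1, 4, 2, 1], [3, 2, 3, 2], [5, 2, 3, 1], [2, 4, 4, 2], [4, 2], [3, 2, 1, 3]] = true := by decide +kernel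
theorem c_f1 : fuB 7 us2 t1 [13] [3, 2, 1, 0, 1] 100 = true := by decide +kernel
theorem c_f2 : fuB 6 us1 (0 :: t1) [9, 11] [1, 2, 2, 1, 3, 0, 0] 21 = true := by decide +kernel
theorem c_f3 : fuB 6 us1 t2 [14] [2, 2, 3, 0, 1] 73 = true := by decide +kernel
theorem c_f4 : fuB 7 us2 (5 :: t2) [13, 9] [0, 1, 3, 1, 2] 42 = true := by decide +kernel
theorem c_kt1 : ktB 0 6 Ag1 [[], [1], [0], [0, 1]] t1 100 21 = true := by decide +kernel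
theorem c_kt2 : ktB 5 7 Ag2 [[], [1], [0], [0, 1]] t2 73 42 = true := by decide +kernel
def JI : List ℕ := [8, 0, 2, 3, 5, 10, 11, 12]
def UJ : List (List ℕ) := [[1], [1, 0], [7, 4, 2, 0], [5], [7], [5, 3], [7, 6, 1, 0], [7, 4], [4], [6], [7, 4, 3, 1], [4, 0], [5, 4, 1, 0], [6, 2], [7, 1], [0], [2, 0], [3, 0], [5, 3, 1, 0], [6, 4], [5, 1], [6, 4, 2, 0]]
def σ1 : List ℕ := [5, 3, 2, 1, 0]
def σ2 : List ℕ := [4, 5, 3, 2, 0]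
def v0 : List ℕ := [8, 0, 5, 12]
theorem c_J : an (allL (inL (6 :: I1)) (JI.map ([·]))) (an (inL (6 :: I1) ([1, 4, 6] ++ σ1)) (nrmB (JI.map ([·])) ([1, 4, 6] ++ σ1) [[1], [0], [7, 4, 2, 1, 0], [5, 1], [7], [3, 0], [6, 1, 0], [4]])) = true ∧
    an (allL (inL (7 :: I2)) (JI.map ([·]))) (an (inL (7 :: I2) ([1, 4, 7] ++ σ2)) (nrmB (JI.map ([·])) ([1, 4, 7] ++ σ2) [[4], [7], [6, 4], [7, 3, 1], [0], [7, 5, 4, 1, 0], [2, 0], [1]])) = true ∧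
    an (allL (inL (6 :: I1)) (JI.map ([·]))) (an (inL (6 :: I1) [1, 4, 6]) (nrmB (JI.map ([·])) [1, 4, 6] UJ)) = true ∧
    an (allL (inL (7 :: I2)) (JI.map ([·]))) (an (inL (7 :: I2) [1, 4, 7]) (nrmB (JI.map ([·])) [1, 4, 7] UJ)) = true := by
  decide +kernel
theorem c_v : cenC [1, 4, 8, 32] (JI.map ([·])) (fun w => an (inL JI w) (an (eqI CI (w ++ w) [])
    (imp (cm ([1, 4, 6] ++ σ1) w) (imp (cm ([1, 4, 7] ++ σ2) w) (orB (eqI CI w []) (eqI CI w v0)))))) = true := by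
  decide +kernel
theorem c_σ : cm [1, 4, 7] [1, 4, 6] = true ∧ eqI (6 :: I1) ([1, 4, 6] ++ σ1 ++ [1, 4, 6]) σ1 = true ∧
    eqI (7 :: I2) (σ1 ++ [1, 4, 7]) ([1, 4, 7] ++ σ1) = true ∧ eqI (7 :: I2) ([1, 4, 7] ++ σ2 ++ [1, 4, 7]) σ2 = true ∧
    eqI (6 :: I1) (σ2 ++ [1, 4, 6]) ([1, 4, 6] ++ σ2) = true ∧
    eqI (7 :: I2) ([1, 4] ++ [8, 7, 8]) ([8, 5] ++ [1, 4, 7]) = true ∧
    eqI (6 :: I1) ([8, 5] ++ v0 ++ [1, 4, 6]) ([1, 4, 6] ++ [8, 5]) = true := by decide +kernel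
theorem c_g1 : an (allL (inL (7 :: I2)) (W1.map ([·]))) (an (inL (7 :: I2) [1, 4, 7]) (nrmB (W1.map ([·])) [1, 4, 7] [[3], [5], [5, 3, 2, 1], [3, 0], [4, 3, 1, 0], [5, 1]])) = true := by
  decide +kernel
theorem c_g2 : an (allL (inL (6 :: I1)) (W2.map ([·]))) (an (inL (6 :: I1) [1, 4, 6]) (nrmB (W2.map ([·])) [1, 4, 6] [[1], [1, 0], [5, 3, 2, 0], [5], [5, 4, 1, 0], [5, 3]])) = true := by
  decide +kernel

end CA.He
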